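import Groth.Agent.ZetaCurve.Base
import Groth.Agent.QCoh.DevissageSum
import Groth.Agent.NormX.Normal
import Mathlib.RingTheory.Trace.Basic

/-!
# Traces as maps of sheaves for finite morphisms onto a normal scheme
-/

noncomputable section

set_option autoImplicit false
set_option linter.style.haveILetI false
set_option linter.unusedSectionVars false
set_option backward.isDefEq.respectTransparency false
set_option backward.isDefEq.respectTransparency.types false
set_option maxHeartbeats 1000000

universe u

open CategoryTheory CategoryTheory.Limits AlgebraicGeometry TopologicalSpace Opposite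
open Groth.Agent.CurveCohLib.Polar (InR gη gη_injective eta_mem)

namespace Groth.Agent.PaLe

open Groth.Agent

variable {X Y : Scheme.{u}} [IsIntegral X] [IsIntegral Y] {f : X ⟶ Y} [IsFinite f]
  (e : f (genericPoint X) = genericPoint Y) (hn : ∀ y : Y, IsIntegrallyClosed (Y.presheaf.stalk y))

/-- The map of function fields. -/
def ffHom : Y.functionField →+* X.functionField :=
  (Y.presheaf.stalkSpecializes (specializes_of_eq e) ≫ f.stalkMap (genericPoint X)).hom

/-- Integrality over all local rings of the target. -/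
def IsIntFun (c : X.functionField) : Prop :=
  ∀ y : Y, ((ffHom e).comp (algebraMap (Y.presheaf.stalk y) Y.functionField)).IsIntegralElem c

/-- The germ at the generic point of a function over an open of the target. -/
def gX {W : Y.Opens} (h : genericPoint Y ∈ W) : Γ(X, f ⁻¹ᵁ W) →+* X.functionField :=
  (X.presheaf.germ (f ⁻¹ᵁ W) (genericPoint X) (show f (genericPoint X) ∈ W from e.symm ▸ h)).hom

theorem gX_res {W V : Y.Opens} (hVW : V ≤ W) (hV : genericPoint Y ∈ V) (a : Γ(X, f ⁻¹ᵁ W)) :
    gX e hV (X.presheaf.map (homOfLE (f.preimage_mono hVW)).op a) = gX e (hVW hV) a :=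
  TopCat.Presheaf.germ_res_apply X.presheaf _ _ _ _

theorem gX_app {W : Y.Opens} (h : genericPoint Y ∈ W) (r : Γ(Y, W)) :
    gX e h (f.app W r) = ffHom e (Y.presheaf.germ W _ h r) := by
  simp only [gX, ffHom, CommRingCat.comp_apply, CommRingCat.hom_comp, RingHom.coe_comp, Function.comp_apply,
    TopCat.Presheaf.germ_stalkSpecializes_apply, Scheme.Hom.germ_stalkMap_apply]

theorem isIntegralElem_gX {W : Y.Opens} (h : genericPoint Y ∈ W) (a : Γ(X, f ⁻¹ᵁ W)) {y : Y} (hy : y ∈ W) :
    ((ffHom e).comp (algebraMap (Y.presheaf.stalk y) Y.functionField)).IsIntegralElem (gX e h a) := by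
  obtain ⟨_, ⟨V, hV, rfl⟩, hyV, hVW⟩ := Y.isBasis_affineOpens.exists_subset_of_mem_open hy W.2
  have hVW' : V ≤ W := hVW
  have hηV : genericPoint Y ∈ V := eta_mem hyV
  obtain ⟨P, hPm, hP⟩ := (IsFinite.finite_app f _ hV).to_isIntegral (X.presheaf.map (homOfLE (f.preimage_mono hVW')).op a)
  refine ⟨P.map (Y.presheaf.germ V y hyV).hom, hPm.map _, ?_⟩
  have hcomp : ((ffHom e).comp (algebraMap (Y.presheaf.stalk y) Y.functionField)).comp (Y.presheaf.germ V y hyV).hom =
      (gX e hηV).comp (f.app V).hom := by
    ext r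
    refine Eq.trans ?_ (gX_app e hηV r).symm
    exact congrArg (ffHom e) (TopCat.Presheaf.germ_stalkSpecializes_apply (F := Y.presheaf) (U := V) (hy := hyV)
      ((genericPoint_spec Y).specializes (Set.mem_univ y)) r)
  rw [Polynomial.eval₂_map, hcomp, ← gX_res e hVW' hηV a, ← Polynomial.hom_eval₂, hP, map_zero]





include e in
theorem surjective_of_generic : Surjective f := by
  refine ⟨fun y => ?_⟩
  have h1 : closure {genericPoint Y} ⊆ Set.range f :=
    closure_minimal (Set.singleton_subset_iff.2 ⟨_, e⟩) f.isClosedMap.isClosed_range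
  rw [(genericPoint_spec Y).def] at h1
  exact h1 (Set.mem_univ y)

theorem finite_ff : letI := (ffHom e).toAlgebra; FiniteDimensional Y.functionField X.functionField := by
  haveI := surjective_of_generic e
  exact NormX.finiteDimensional_ff f

include hn in
theorem inR_trace {c : X.functionField} (hc : IsIntFun e c) {W : Y.Opens} (h : genericPoint Y ∈ W)
    (a : Γ(X, f ⁻¹ᵁ W)) {y : Y} (hy : y ∈ W) :
    InR y (letI := (ffHom e).toAlgebra; Algebra.trace Y.functionField X.functionField (c * gX e h a)) := by
  letI := (ffHom e).toAlgebra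
  letI : Algebra (Y.presheaf.stalk y) X.functionField :=
    ((ffHom e).comp (algebraMap (Y.presheaf.stalk y) Y.functionField)).toAlgebra
  haveI : IsScalarTower (Y.presheaf.stalk y) Y.functionField X.functionField :=
    IsScalarTower.of_algebraMap_eq fun _ => rfl
  haveI := hn y
  have hint : IsIntegral (Y.presheaf.stalk y) (c * gX e h a) :=
    IsIntegral.mul (hc y) (isIntegralElem_gX e h a hy)
  haveI := finite_ff e
  exact IsIntegrallyClosed.isIntegral_iff.1 (Algebra.isIntegral_trace (F := X.functionField) hint)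



theorem sec_ext {W : Y.Opens} {v w : Γ(Y, W)}
    (h : ∀ hη : genericPoint Y ∈ W, Y.presheaf.germ W _ hη v = Y.presheaf.germ W _ hη w) : v = w := by
  by_cases hW : genericPoint Y ∈ W
  · exact gη_injective hW (h hW)
  · exact AModX.eq_of_locally (M := Coh.structureModule Y) _ _ fun p hp => absurd (eta_mem hp) hW

variable (c : X.functionField) (hc : IsIntFun e c)

open Classical in
/-- The trace of `c * a`. -/
def trSec (W : Y.Opens) (a : Γ(X, f ⁻¹ᵁ W)) : Γ(Y, W) :=
  if h : genericPoint Y ∈ W then
    (CurveCohLib.Polar.exists_of_forall_inR (W := W) fun _ hy => inR_trace e hn hc h a hy).choose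
  else 0

theorem trSec_spec {W : Y.Opens} (h : genericPoint Y ∈ W) (a : Γ(X, f ⁻¹ᵁ W)) :
    Y.presheaf.germ W _ h (trSec e hn c hc W a) =
      (letI := (ffHom e).toAlgebra; Algebra.trace Y.functionField X.functionField (c * gX e h a)) := by
  rw [trSec, dif_pos h]
  exact (CurveCohLib.Polar.exists_of_forall_inR (W := W) fun _ hy => inR_trace e hn hc h a hy).choose_spec h

theorem trSec_add (W : Y.Opens) (a b : Γ(X, f ⁻¹ᵁ W)) :
    trSec e hn c hc W (a + b) = trSec e hn c hc W a + trSec e hn c hc W b :=
  sec_ext fun hη => by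
    letI := (ffHom e).toAlgebra
    rw [map_add, trSec_spec, trSec_spec, trSec_spec, map_add, mul_add, map_add]

theorem trSec_mul (W : Y.Opens) (r : Γ(Y, W)) (a : Γ(X, f ⁻¹ᵁ W)) :
    trSec e hn c hc W (f.app W r * a) = r * trSec e hn c hc W a :=
  sec_ext fun hη => by
    letI := (ffHom e).toAlgebra
    rw [map_mul, trSec_spec, trSec_spec, map_mul (gX e hη), gX_app]
    show _ = _ * _
    rw [mul_left_comm]
    exact (congrArg (Algebra.trace Y.functionField X.functionField) (Algebra.smul_def _ _).symm).trans (map_smul _ _ _)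

theorem trSec_res {W' W : Y.Opens} (h : W' ≤ W) (a : Γ(X, f ⁻¹ᵁ W)) :
    trSec e hn c hc W' (X.presheaf.map (homOfLE (f.preimage_mono h)).op a) =
      Y.presheaf.map (homOfLE h).op (trSec e hn c hc W a) :=
  sec_ext fun hη => by
    letI := (ffHom e).toAlgebra
    rw [TopCat.Presheaf.germ_res_apply, trSec_spec, trSec_spec, gX_res]

/-- The trace as a map of modules. -/
def trHom : (Scheme.Modules.pushforward f).obj (Coh.structureModule X) ⟶ Coh.structureModule Y :=
  ⟨PresheafOfModules.homMk
    { app := fun W => AddCommGrpCat.ofHom (AddMonoidHom.mk' (trSec e hn c hc W.unop) (trSec_add e hn c hc W.unop))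
      naturality := fun W W' i => by
        ext a
        exact trSec_res e hn c hc i.unop.le a }
    (fun W r a => trSec_mul e hn c hc W.unop r a)⟩

theorem germ_trHom {W : Y.Opens} (h : genericPoint Y ∈ W) (a : Γ(X, f ⁻¹ᵁ W)) :
    Y.presheaf.germ W _ h (show Γ(Y, W) from (trHom e hn c hc).app W (show Γ(X, f ⁻¹ᵁ W) from a)) =
      (letI := (ffHom e).toAlgebra; Algebra.trace Y.functionField X.functionField (c * gX e h a)) :=
  trSec_spec e hn c hc h a

end Groth.Agent.PaLe
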