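import Groth.Agent.PaLe.Constants
import Groth.Agent.PaLe.Trace
import Groth.Agent.GenusLe.Basic
import Groth.Agent.CurveEmbed.Points
import Groth.Agent.Lib.CurveDualPrep
import Groth.Agent.NefCurve.Mult
import Groth.Agent.Lib.CurveRR
import Groth.Agent.QCoh.DevissageP

/-!
# The arithmetic genus does not grow along finite separable maps onto normal curves
-/

noncomputable section

set_option autoImplicit false
set_option linter.style.haveILetI false
set_option linter.unusedSectionVars false
set_option backward.isDefEq.respectTransparency false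
set_option backward.isDefEq.respectTransparency.types false
set_option maxHeartbeats 2000000

universe u

open CategoryTheory CategoryTheory.Limits AlgebraicGeometry TopologicalSpace Opposite
open Groth.Agent.PnCoh.Finite (mapLin)
open Groth.Agent.CurveCohLib.Polar (InR gη gη_injective eta_mem)

namespace Groth.Agent.PaLe

open Groth.Agent

attribute [local instance] QCoh.hasFiniteBiproducts ZetaCurve.ffAlg

theorem surjective_trace {K L : Type u} [Field K] [Field L] [Algebra K L] [FiniteDimensional K L]
    [Algebra.IsSeparable K L] {m : ℕ} {c : Fin m → L} (hc : LinearIndependent K c) (t : Fin m → K) :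
    ∃ x : L, ∀ i, Algebra.trace K L (c i * x) = t i := by
  classical
  let T : L →ₗ[K] Fin m → K := LinearMap.pi fun i => (Algebra.traceForm K L) (c i)
  have hT : Function.Surjective T := by
    rw [← LinearMap.dualMap_injective_iff]
    refine (injective_iff_map_eq_zero T.dualMap).2 fun φ hφ => ?_
    have hsum : ∑ i, φ (Pi.single i 1) • c i = 0 := by
      refine (traceForm_nondegenerate K L).1 _ fun x => ?_
      have h := LinearMap.congr_fun hφ x
      rw [LinearMap.dualMap_apply, pi_eq_sum_univ' (T x), map_sum] at h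
      rw [map_sum, LinearMap.sum_apply]
      refine Eq.trans (Finset.sum_congr rfl fun i _ => ?_) h
      rw [map_smul, LinearMap.smul_apply, smul_eq_mul, map_smul, smul_eq_mul, mul_comm]
      rfl
    refine LinearMap.ext fun v => ?_
    have h0 := Fintype.linearIndependent_iff.1 hc _ hsum
    rw [show v = ∑ i, v i • Pi.single i (1 : K) from pi_eq_sum_univ' v, map_sum]
    simp [map_smul, h0]
  obtain ⟨x, hx⟩ := hT t
  exact ⟨x, fun i => congrFun hx i⟩

variable (k : Type u) [Field k] {X Y : Scheme.{u}} [X.Over (Spec (CommRingCat.of k))]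
  [Y.Over (Spec (CommRingCat.of k))] [IsIntegral X] [IsIntegral Y]

theorem ffHom_algebraMap {f : X ⟶ Y} (hf : f ≫ (Y ↘ Spec (CommRingCat.of k)) = X ↘ Spec (CommRingCat.of k))
    (e : f (genericPoint X) = genericPoint Y) (c : k) :
    ffHom e (algebraMap k Y.functionField c) = algebraMap k X.functionField c := by
  show (Y.presheaf.stalkSpecializes (specializes_of_eq e) ≫ f.stalkMap (genericPoint X))
      (Y.presheaf.germ ⊤ _ trivial ((Y ↘ Spec (CommRingCat.of k)).appTop ((Scheme.ΓSpecIso (CommRingCat.of k)).inv c))) =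
    X.presheaf.germ ⊤ _ trivial ((X ↘ Spec (CommRingCat.of k)).appTop ((Scheme.ΓSpecIso (CommRingCat.of k)).inv c))
  simp only [← hf, Scheme.Hom.comp_appTop, CommRingCat.comp_apply, TopCat.Presheaf.germ_stalkSpecializes_apply,
    Scheme.Hom.germ_stalkMap_apply]
  rfl

theorem ext_biproduct {β : Type u} [Fintype β] (T : β → Y.Modules) {W : Y.Opens} {a b : Γ(⨁ T, W)}
    (h : ∀ i, (biproduct.π T i).app W a = (biproduct.π T i).app W b) : a = b := by
  have key : ∀ x : Γ(⨁ T, W), x = ∑ i, (biproduct.ι T i).app W ((biproduct.π T i).app W x) := fun x => by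
    refine Eq.trans ?_ (QCoh.app_sum Finset.univ (fun i => biproduct.π T i ≫ biproduct.ι T i) W x)
    rw [QCoh.biproduct_total']
    rfl
  rw [key a, key b]
  exact Finset.sum_congr rfl fun i _ => by rw [h i]

variable [IsProper (X ↘ Spec (CommRingCat.of k))] [IsProper (Y ↘ Spec (CommRingCat.of k))]

/-- A finite separable map of normal proper curves does not lower the arithmetic genus, if it is nonnegative. -/
theorem euler_le (hdX : topologicalKrullDim X = 1) (hdY : topologicalKrullDim Y = 1)
    (hnX : ∀ x : X, IsIntegrallyClosed (X.presheaf.stalk x))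
    (hnY : ∀ y : Y, IsIntegrallyClosed (Y.presheaf.stalk y))
    (f : X ⟶ Y) [IsFinite f] (hf : f ≫ (Y ↘ Spec (CommRingCat.of k)) = X ↘ Spec (CommRingCat.of k))
    (e : f (genericPoint X) = genericPoint Y)
    (hsep : letI := (ffHom e).toAlgebra; Algebra.IsSeparable Y.functionField X.functionField)
    (hpa : 0 ≤ 1 - Curv2.euler k X (Coh.structureModule X)) :
    Curv2.euler k X (Coh.structureModule X) ≤ Curv2.euler k Y (Coh.structureModule Y) := by
  classical
  haveI := CurveCohLib.isNoetherian_of_proper (k := k) (X := X)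
  haveI := CurveCohLib.isNoetherian_of_proper (k := k) (X := Y)
  letI : Algebra Y.functionField X.functionField := (ffHom e).toAlgebra
  haveI := hsep
  haveI := finite_ff e
  haveI : IsScalarTower k Y.functionField X.functionField :=
    IsScalarTower.of_algebraMap_eq fun c => (ffHom_algebraMap k hf e c).symm
  obtain ⟨hfinX, hX0⟩ := finrank_h0 k X hnX
  obtain ⟨hfinY, hY0⟩ := finrank_h0 k Y hnY
  haveI := hfinX
  haveI := hfinY
  obtain ⟨m, c, hm, hci, hcl, hdim⟩ := exists_indep k Y.functionField X.functionField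
  rw [← hX0, ← hY0] at hdim
  have hc : ∀ i, IsIntFun e (c i) := fun i y => by
    obtain ⟨P, hPm, hP⟩ := hci i
    refine ⟨P.map (Curv2.stalkMap k Y y), hPm.map _, ?_⟩
    rw [Polynomial.eval₂_map]
    refine Eq.trans ?_ hP
    congr 1
    ext a
    show ffHom e (algebraMap (Y.presheaf.stalk y) Y.functionField (Curv2.stalkMap k Y y a)) = _
    rw [← ZetaCurve.algebraMap_eq, ffHom_algebraMap k hf e]
  -- the map of sheaves
  let A : Y.Modules := (Scheme.Modules.pushforward f).obj (Coh.structureModule X)
  let T : ULift.{u} (Fin m) → Y.Modules := fun _ => Coh.structureModule Y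
  let φ : A ⟶ ⨁ T := biproduct.lift fun i => trHom e hnY (c i.down) (hc i.down)
  have hOX : Coh.IsCoh (Coh.structureModule X) := QCoh.isCoh_structureModule'
  have hOY : Coh.IsCoh (Coh.structureModule Y) := QCoh.isCoh_structureModule'
  have hA : Coh.IsCoh A := QCoh.isCoh_pushforward_finite f hOX
  have hB : Coh.IsCoh (⨁ T) := QCoh.isCoh_biproduct T fun _ => hOY
  have hQ : Coh.IsCoh (cokernel φ) := QCoh.isCoh_cokernel hA.1 hB φ
  -- surjective at the generic point
  have hgen : Subsingleton ((cokernel φ).presheaf.stalk (genericPoint Y)) := by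
    refine subsingleton_of_forall_eq 0 fun q => ?_
    obtain ⟨z, rfl⟩ := (ModuleCat.epi_iff_surjective ((DerSch.stalkFunctor Y (genericPoint Y)).map (cokernel.π φ))).1 inferInstance q
    obtain ⟨W, hηW, s, rfl⟩ := (⨁ T).presheaf.germ_exist z
    let t : ULift.{u} (Fin m) → Γ(Y, W) := fun i => (biproduct.π T i).app W s
    obtain ⟨x, hx⟩ := surjective_trace hcl fun i => Y.presheaf.germ W _ hηW (t ⟨i⟩)
    obtain ⟨U, hηU, a₀, ha₀⟩ := X.presheaf.germ_exist x
    let W' : Y.Opens := W ⊓ ⟨(f '' (U : Set X)ᶜ)ᶜ, (f.isClosedMap _ U.2.isClosed_compl).isOpen_compl⟩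
    have hηW' : genericPoint Y ∈ W' := ⟨hηW, fun ⟨z, hz, hfz⟩ => by
      have hzη : z ≠ genericPoint X := fun h => hz (h ▸ hηU)
      have hzc : IsClosed ({z} : Set X) := by
        by_contra h
        exact hzη (CurveCohLib.eq_genericPoint_of_not_isClosed hdX h)
      have h1 := f.isClosedMap _ hzc
      rw [Set.image_singleton, hfz] at h1
      exact CurveEmbed.genericPoint_not_closed hdY h1⟩
    have hle : W' ≤ W := inf_le_left
    have hsub : f ⁻¹ᵁ W' ≤ U := fun z hz => by
      by_contra h
      exact hz.2 ⟨z, h, rfl⟩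
    let a : Γ(X, f ⁻¹ᵁ W') := X.presheaf.map (homOfLE hsub).op a₀
    have hgX : gX e hηW' a = x :=
      (TopCat.Presheaf.germ_res_apply X.presheaf (homOfLE hsub) _ _ a₀).trans ha₀
    have hφ : φ.app W' (show Γ(A, W') from a) = (⨁ T).presheaf.map (homOfLE hle).op s := by
      refine ext_biproduct T fun i => ?_
      have h1 : (biproduct.π T i).app W' (φ.app W' (show Γ(A, W') from a)) =
          (trHom e hnY (c i.down) (hc i.down)).app W' (show Γ(A, W') from a) :=
        congr(($(biproduct.lift_π (fun i => trHom e hnY (c i.down) (hc i.down)) i)).app W' (show Γ(A, W') from a))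
      refine h1.trans ?_
      refine Eq.trans ?_ (QCoh.map_app_comm (biproduct.π T i) (homOfLE hle) s).symm
      refine sec_ext (v := (show Γ(Y, W') from _)) (w := Y.presheaf.map (homOfLE hle).op (t i)) fun hη => ?_
      rw [germ_trHom e hnY (c i.down) (hc i.down) hη a, TopCat.Presheaf.germ_res_apply,
        show gX e hη a = x from hgX]
      exact hx i.down
    rw [← (⨁ T).presheaf.germ_res_apply (homOfLE hle) _ hηW' s, ← hφ]
    refine (DerSch.stalkFunctor_map_germ (genericPoint Y) (cokernel.π φ) W' hηW' _).trans ?_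
    have hz : (cokernel.π φ).app W' (φ.app W' (show Γ(A, W') from a)) = 0 :=
      congr(($(cokernel.condition φ)).app W' (show Γ(A, W') from a))
    rw [hz, map_zero]
  have hScl : ∀ y ∈ CohB1.support (cokernel φ), IsClosed ({y} : Set Y) := fun y hy => by
    by_contra h
    obtain rfl := CurveCohLib.eq_genericPoint_of_not_isClosed hdY h
    exact hy hgen
  have hsurj := GenusLe.surjective_mapLin_one_of_cokernel k hdY.le hA.1 hB.1 φ
    (CurveCohLib.finite_of_closedPoints (QCoh.isClosed_support_of_isFT hQ.1 hQ.2) hScl) hScl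
    (fun y hy => not_not.1 hy)
  -- dimensions
  let L : Coh.HH Y A 1 →ₗ[k] (ULift.{u} (Fin m) → Coh.HH Y (Coh.structureModule Y) 1) :=
    LinearMap.pi fun i => (mapLin k (biproduct.π T i) 1).comp (mapLin k φ 1)
  have hL : Function.Surjective L := fun v => by
    obtain ⟨z, hz⟩ := hsurj (∑ i, mapLin k (biproduct.ι T i) 1 (v i))
    refine ⟨z, funext fun j => ?_⟩
    show mapLin k (biproduct.π T j) 1 (mapLin k φ 1 z) = v j
    rw [hz, map_sum, Finset.sum_eq_single j]
    · rw [← NefCurve.mapLin_comp, biproduct.ι_π_self, NefCurve.mapLin_id]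
    · intro i _ hi
      rw [← NefCurve.mapLin_comp, biproduct.ι_π_ne T hi, NefCurve.mapLin_zero]
    · simp
  haveI := CurveCohLib.finite_HH (k := k) hA 1
  haveI := CurveCohLib.finite_HH (k := k) hOY 1
  have h1 := LinearMap.finrank_le_finrank_of_surjective hL
  rw [Module.finrank_pi_fintype, Finset.sum_const, Finset.card_univ, Fintype.card_ulift, Fintype.card_fin,
    smul_eq_mul] at h1
  obtain ⟨eL⟩ := QCoh.HH_push_linear f (Coh.toGlobal (Y ↘ Spec (CommRingCat.of k)))
    (Coh.toGlobal (X ↘ Spec (CommRingCat.of k))) (fun a => by rw [← hf]; rfl) hOX.1 1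
  have h2 : m * Module.finrank k (Coh.HH Y (Coh.structureModule Y) 1) ≤
      Module.finrank k (Coh.HH X (Coh.structureModule X) 1) := h1.trans (LinearEquiv.finrank_eq eL).ge
  rw [CurveRR.euler_eq_h0_sub_h1 k hdX.le QCoh.isQCoh_structureModule] at hpa ⊢
  rw [CurveRR.euler_eq_h0_sub_h1 k hdY.le QCoh.isQCoh_structureModule]
  have hpos : 0 < Module.finrank k (algebraicClosure k Y.functionField) := Module.finrank_pos
  rw [← hY0] at hpos
  zify at h2 hdim hm hpos
  rw [hdim] at hpa ⊢
  nlinarith

end Groth.Agent.PaLe
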