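import Groth.Agent.ZetaCurve.Base
import Groth.Agent.GeomField.GlobalFunctions
import Mathlib.FieldTheory.AlgebraicClosure
import Mathlib.FieldTheory.PrimitiveElement
import Mathlib.RingTheory.Polynomial.IsIntegral

/-!
# Constants of normal proper varieties and their behaviour in separable extensions
-/

noncomputable section

set_option autoImplicit false
set_option linter.style.haveILetI false
set_option linter.unusedSectionVars false
set_option backward.isDefEq.respectTransparency false
set_option backward.isDefEq.respectTransparency.types false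
set_option maxHeartbeats 1000000
set_option synthInstance.maxHeartbeats 400000

universe u v w

open CategoryTheory CategoryTheory.Limits AlgebraicGeometry TopologicalSpace Polynomial
open Groth.Agent.CurveCohLib.Polar (InR)

namespace Groth.Agent.PaLe

open Groth.Agent

section Fields

variable (k : Type u) (K : Type v) (L : Type w) [Field k] [Field K] [Field L] [Algebra k K] [Algebra K L]
  [Algebra k L] [IsScalarTower k K L]

/-- Minimal polynomials of constants do not change. -/
theorem minpoly_map {b : L} (hb : IsIntegral (algebraicClosure k K) b) :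
    minpoly K b = (minpoly (algebraicClosure k K) b).map (algebraMap (algebraicClosure k K) K) := by
  set k₁ := algebraicClosure k K
  have hdvd := minpoly.dvd_map_of_isScalarTower k₁ K b
  have hbK : IsIntegral K b := hb.tower_top
  have hl : minpoly K b ∈ Polynomial.lifts (algebraMap k₁ K) := by
    refine (Polynomial.lifts_iff_coeff_lifts _).2 fun i => ?_
    have h1 : IsIntegral k₁ ((minpoly K b).coeff i) :=
      Polynomial.isIntegral_coeff_of_dvd _ _ (minpoly.monic hb) (minpoly.monic hbK) hdvd i
    exact ⟨⟨_, mem_algebraicClosure_iff'.2 (isIntegral_trans _ h1)⟩, rfl⟩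
  obtain ⟨Q, hQ, -, hQm⟩ := Polynomial.lifts_and_degree_eq_and_monic hl (minpoly.monic hbK)
  refine Polynomial.eq_of_monic_of_associated (minpoly.monic hbK) ((minpoly.monic hb).map _)
    (associated_of_dvd_dvd hdvd ?_)
  rw [← hQ]
  refine Polynomial.map_dvd _ (minpoly.dvd k₁ b ?_)
  rw [← aeval_map_algebraMap K, hQ, minpoly.aeval]

/-- The constants of a separable extension are spanned by elements independent over the lower field. -/
theorem exists_indep [FiniteDimensional K L] [Algebra.IsSeparable K L] [FiniteDimensional k (algebraicClosure k L)] :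
    ∃ (m : ℕ) (c : Fin m → L), 1 ≤ m ∧ (∀ i, IsIntegral k (c i)) ∧ LinearIndependent K c ∧
      Module.finrank k (algebraicClosure k L) = m * Module.finrank k (algebraicClosure k K) := by
  set k₁ := algebraicClosure k K
  set k₂ := algebraicClosure k₁ L
  have hcar : k₂.restrictScalars k = algebraicClosure k L := by
    ext x
    rw [IntermediateField.mem_restrictScalars, mem_algebraicClosure_iff', mem_algebraicClosure_iff']
    exact ⟨fun h => isIntegral_trans x h, fun h => h.tower_top⟩
  let e : k₂ ≃ₗ[k] algebraicClosure k L :=
    (IntermediateField.equivOfEq hcar).toLinearEquiv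
  haveI : Module.Finite k k₂ := Module.Finite.equiv e.symm
  haveI : FiniteDimensional k₁ k₂ := Module.Finite.of_restrictScalars_finite k k₁ k₂
  haveI : Algebra.IsSeparable k₁ k₂ := ⟨fun b => by
    have h : IsIntegral k₁ (b : L) := mem_algebraicClosure_iff'.1 b.2
    have h2 : (minpoly K (b : L)).Separable := Algebra.IsSeparable.isSeparable K (b : L)
    rw [minpoly_map k K L h, Polynomial.separable_map] at h2
    show (minpoly k₁ b).Separable
    rwa [← minpoly.algebraMap_eq (algebraMap k₂ L).injective]⟩
  obtain ⟨b, hb⟩ := Field.exists_primitive_element k₁ k₂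
  have hbi : IsIntegral k₁ (b : L) := mem_algebraicClosure_iff'.1 b.2
  have hdeg : (minpoly K (b : L)).natDegree = Module.finrank k₁ k₂ := by
    rw [minpoly_map k K L hbi, Polynomial.natDegree_map,
      show minpoly k₁ (b : L) = minpoly k₁ b from minpoly.algebraMap_eq (algebraMap k₂ L).injective b]
    exact (Field.primitive_element_iff_minpoly_natDegree_eq k₁ b).1 hb
  refine ⟨(minpoly K (b : L)).natDegree, fun i => (b : L) ^ (i : ℕ), ?_, fun i => ?_, linearIndependent_pow _, ?_⟩
  · rw [hdeg]; exact Module.finrank_pos
  · exact mem_algebraicClosure_iff'.1 (pow_mem (hcar ▸ (b.2 : (b : L) ∈ k₂.restrictScalars k)) _)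
  · rw [hdeg, ← e.finrank_eq, mul_comm, Module.finrank_mul_finrank]

end Fields

variable (k : Type u) [Field k] (X : Scheme.{u}) [X.Over (Spec (CommRingCat.of k))] [IsIntegral X]
  [IsProper (X ↘ Spec (CommRingCat.of k))]

attribute [local instance] GeomField.globalAlgebra ZetaCurve.ffAlg

/-- Global functions on a normal proper variety are the constants. -/
theorem finrank_h0 (hn : ∀ x : X, IsIntegrallyClosed (X.presheaf.stalk x)) :
    FiniteDimensional k (algebraicClosure k X.functionField) ∧
    Module.finrank k (Coh.HH X (Coh.structureModule X) 0) =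
      Module.finrank k (algebraicClosure k X.functionField) := by
  haveI := GeomField.finite_globalFunctions k X
  let φ : Γ(X, ⊤) →ₐ[k] X.functionField :=
    { (X.presheaf.germ ⊤ (genericPoint X) trivial).hom with commutes' := fun c => rfl }
  have hinj : Function.Injective φ := germ_injective_of_isIntegral (X := X) (genericPoint X) (U := ⊤) trivial
  have hrange : LinearMap.range φ.toLinearMap = (algebraicClosure k X.functionField).toSubalgebra.toSubmodule := by
    refine le_antisymm ?_ fun x hx => ?_
    · rintro _ ⟨a, rfl⟩
      exact mem_algebraicClosure_iff'.2 ((Algebra.IsIntegral.isIntegral (R := k) a).map φ)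
    · have hxi : IsIntegral k x := mem_algebraicClosure_iff'.1 hx
      have hall : ∀ z ∈ (⊤ : X.Opens), InR z x := fun z _ => by
        letI := Curv2.stalkAlgebra k X z
        haveI : IsScalarTower k (X.presheaf.stalk z) X.functionField :=
          IsScalarTower.of_algebraMap_eq fun c => ZetaCurve.algebraMap_eq k X z c
        haveI := hn z
        exact IsIntegrallyClosed.isIntegral_iff.1 hxi.tower_top
      obtain ⟨r, hr⟩ := CurveCohLib.Polar.exists_of_forall_inR hall
      exact ⟨r, hr (x := genericPoint X) trivial⟩
  let e : Γ(X, ⊤) ≃ₗ[k] algebraicClosure k X.functionField :=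
    (LinearEquiv.ofInjective φ.toLinearMap hinj).trans (LinearEquiv.ofEq _ _ hrange)
  exact ⟨Module.Finite.equiv e, (GeomField.finrank_HH_zero k X).trans e.finrank_eq⟩

end Groth.Agent.PaLe
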